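import Groth.Agent.S5267

/-!
# Finiteness of clopen pieces of quasi-isotrivial twisted constant schemes, without Noetherian
hypotheses (helper7)

* `finite_fst_snd`, `finite_fibre_iff'`: fibres of étale base changes, no quasi-separatedness.
* `LocPreconn S`: étale `S`-schemes are locally preconnected.
* `key'`, `isClopen_finiteFibreLocus`, `isFinite_of_forall_finite_fibre`: generalizations of
  `S5267.key` / `S5267.result`.
-/

set_option autoImplicit false

namespace Groth.Agent.Lib.Helper7.TwConst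

open CategoryTheory Limits AlgebraicGeometry TopologicalSpace Set Groth.Agent.S19144 Groth.Agent.S5266
  Groth.Agent.S5308 MorphismProperty

universe u

/-- The points of `Z ×_S S'` over a given pair of points form a finite set when `g` is locally
quasi-finite. -/
theorem finite_fst_snd {Z S S' : Scheme.{u}} (p : Z ⟶ S) (g : S' ⟶ S) [LocallyQuasiFinite g]
    (z : Z) (u : S') :
    {w : ↥(pullback p g) | pullback.fst p g w = z ∧ pullback.snd p g w = u}.Finite := by
  by_cases h : p z = g u
  · let T : Scheme.Pullback.Triplet p g := Scheme.Pullback.Triplet.mk' z u h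
    have hsub : {w : ↥(pullback p g) | pullback.fst p g w = z ∧ pullback.snd p g w = u} ⊆
        Set.range T.SpecTensorTo := by
      rintro w ⟨h1, h2⟩
      have hT : Scheme.Pullback.Triplet.ofPoint w = T :=
        Scheme.Pullback.Triplet.ext h1 h2
      have h3 := Scheme.Pullback.SpecTensorTo_SpecOfPoint w
      rw [← h3, ← Scheme.Pullback.tensorCongr_SpecTensorTo hT.symm, Scheme.Hom.comp_apply]
      exact ⟨_, rfl⟩
    have hcomp : IsCompact (Set.range T.SpecTensorTo) :=
      isCompact_range T.SpecTensorTo.continuous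
    have hdisc : _root_.IsDiscrete ((pullback.fst p g) ⁻¹' {z}) :=
      (pullback.fst p g).isDiscrete_preimage_singleton z
    have hsub2 : Set.range T.SpecTensorTo ⊆ (pullback.fst p g) ⁻¹' {z} := by
      rintro _ ⟨q, rfl⟩
      exact Scheme.Pullback.Triplet.fst_SpecTensorTo_apply T q
    have hdisc2 : _root_.IsDiscrete (Set.range T.SpecTensorTo) := hdisc.mono hsub2
    exact (hcomp.finite hdisc2).subset hsub
  · convert Set.finite_empty
    ext w
    simp only [Set.mem_ofPred_eq, Set.mem_empty_iff_false, iff_false, not_and]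
    rintro rfl rfl
    apply h
    rw [← Scheme.Hom.comp_apply, pullback.condition, Scheme.Hom.comp_apply]

/-- For étale `g`, the fibre of `Z ×_S S' ⟶ S'` over `u` is finite iff the fibre of `Z ⟶ S` over
`g u` is (no quasi-separatedness needed). -/
theorem finite_fibre_iff' {Z S S' : Scheme.{u}} (p : Z ⟶ S) (g : S' ⟶ S) [Etale g] (u : S') :
    ((pullback.snd p g) ⁻¹' {u}).Finite ↔ (p ⁻¹' {g u}).Finite := by
  constructor
  · intro h
    have : p ⁻¹' {g u} = (pullback.fst p g) '' ((pullback.snd p g) ⁻¹' {u}) := by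
      ext z
      constructor
      · intro hz
        obtain ⟨z', h1, h2⟩ := Scheme.Pullback.exists_preimage_pullback (f := p) (g := g) z u hz
        exact ⟨z', h2, h1⟩
      · rintro ⟨z', hz', rfl⟩
        show p (pullback.fst p g z') = g u
        rw [← Scheme.Hom.comp_apply, pullback.condition, Scheme.Hom.comp_apply, hz']
    rw [this]
    exact h.image _
  · intro h
    have hlqf : LocallyQuasiFinite g := locallyQuasiFinite_of_formallyUnramified g
    have hU : (pullback.snd p g) ⁻¹' {u} ⊆ ⋃ z ∈ p ⁻¹' {g u},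
        {w : ↥(pullback p g) | pullback.fst p g w = z ∧ pullback.snd p g w = u} := by
      intro w hw
      have hw' : pullback.snd p g w = u := hw
      refine Set.mem_iUnion₂.mpr ⟨pullback.fst p g w, ?_, rfl, hw'⟩
      show p (pullback.fst p g w) = g u
      rw [← Scheme.Hom.comp_apply, pullback.condition, Scheme.Hom.comp_apply, hw']
    exact (h.biUnion fun z _ => finite_fst_snd p g z u).subset hU

/-- Étale `S`-schemes are locally preconnected. -/
def LocPreconn (S : Scheme.{u}) : Prop :=
  ∀ (S' : Scheme.{u}) (g : S' ⟶ S), Etale g → ∀ s' : S',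
    ∃ N : S'.Opens, s' ∈ N ∧ _root_.IsPreconnected (N : Set S')

theorem locPreconn_of_isLocallyNoetherian (S : Scheme.{u}) [IsLocallyNoetherian S] :
    LocPreconn S := by
  intro S' g hg s'
  have : IsLocallyNoetherian S' := LocallyOfFiniteType.isLocallyNoetherian g
  exact ⟨⟨connectedComponent s', isOpen_connectedComponent_of_isLocallyNoetherian S' s'⟩,
    mem_connectedComponent, isPreconnected_connectedComponent⟩

/-- Generalization of `S5267.key`. -/
theorem key' {S : Scheme.{u}} (hlc : LocPreconn S) (P : Over S)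
    (hP : TwC.IsTwConst TwC.Topology.etale P) {Z : Scheme.{u}} (z : Z ⟶ P.left)
    [IsOpenImmersion z] [IsClosedImmersion z] (s : S) :
    ∃ (S' : Scheme.{u}) (g : S' ⟶ S) (_ : Etale g) (s' : S') (N : S'.Opens) (fin : Prop),
      g s' = s ∧ s' ∈ N ∧
      (∀ u ∈ N, ((pullback.snd (z ≫ P.hom) g) ⁻¹' {u}).Finite ↔ fin) ∧
      (fin → ∀ K : Set S', K ⊆ (N : Set S') → IsCompact K →
        IsCompact ((pullback.snd (z ≫ P.hom) g) ⁻¹' K)) := by
  obtain ⟨S', g, hg, ⟨s', rfl⟩, I, ⟨e⟩⟩ := hP s
  let e' : pullback P.hom g ≅ ∐ fun _ : I => S' := (Over.forget S').mapIso e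
  have he' : e'.hom ≫ c S' I = pullback.snd P.hom g := Over.w e.hom
  let z' : pullback (z ≫ P.hom) g ⟶ pullback P.hom g :=
    pullback.map (z ≫ P.hom) g P.hom g z (𝟙 S') (𝟙 S) (by simp) (by simp)
  have hz'1 : z' ≫ pullback.fst P.hom g = pullback.fst (z ≫ P.hom) g ≫ z := pullback.lift_fst _ _ _
  have hz'2 : z' ≫ pullback.snd P.hom g = pullback.snd (z ≫ P.hom) g :=
    (pullback.lift_snd _ _ _).trans (Category.comp_id _)
  have big : IsPullback (z' ≫ pullback.snd P.hom g) (pullback.fst (z ≫ P.hom) g) g (z ≫ P.hom) := by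
    rw [hz'2]; exact (IsPullback.of_hasPullback _ _).flip
  have sq : IsPullback z' (pullback.fst (z ≫ P.hom) g) (pullback.fst P.hom g) z :=
    IsPullback.of_right big hz'1 (IsPullback.of_hasPullback P.hom g).flip
  have hz'o : IsOpenImmersion z' :=
    MorphismProperty.of_isPullback (P := @IsOpenImmersion) sq.flip inferInstance
  have hz'c : IsClosedImmersion z' :=
    MorphismProperty.of_isPullback (P := @IsClosedImmersion) sq.flip inferInstance
  let w : pullback (z ≫ P.hom) g ⟶ ∐ fun _ : I => S' := z' ≫ e'.hom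
  have hwc : w ≫ c S' I = pullback.snd (z ≫ P.hom) g := by
    simp only [w, Category.assoc, he', hz'2]
  have hw : IsClosed (Set.range w) := w.isClosedEmbedding.isClosed_range
  obtain ⟨N, hs'N, hN⟩ := hlc S' g hg s'
  refine ⟨S', g, hg, s', N, {i : I | Sigma.ι (fun _ : I => S') i s' ∈ Set.range w}.Finite, rfl,
    hs'N, fun u hu => ?_, fun hJ K hKN hK => ?_⟩
  · rw [← hwc]
    exact finite_fibre_iff_of_preconnected w hw hN hs'N hu
  · rw [← hwc]
    exact isCompact_preimage_of_preconnected w hw hN hs'N hJ hKN hK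

/-- The locus of points of `S` over which a clopen piece of a quasi-isotrivial twisted constant
scheme has finite fibre is open and closed. -/
theorem isClopen_finiteFibreLocus {S : Scheme.{u}} (hlc : LocPreconn S) (P : Over S)
    (hP : TwC.IsTwConst TwC.Topology.etale P) {Z : Scheme.{u}} (z : Z ⟶ P.left)
    [IsOpenImmersion z] [IsClosedImmersion z] :
    IsClopen {s : S | ((z ≫ P.hom) ⁻¹' {s}).Finite} := by
  set E : Set S := {s | ((z ≫ P.hom) ⁻¹' {s}).Finite} with hE
  have hloc : ∀ s : S, ∃ O : Set S, IsOpen O ∧ s ∈ O ∧ ((∀ t ∈ O, t ∈ E) ∨ (∀ t ∈ O, t ∉ E)) := by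
    intro s
    obtain ⟨S', g, hg, s', N, fin, rfl, hs'N, ha, -⟩ := key' hlc P hP z s
    refine ⟨g '' (N : Set S'), g.isOpenMap _ N.2, ⟨s', hs'N, rfl⟩, ?_⟩
    by_cases hfin : fin
    · left
      rintro _ ⟨u, hu, rfl⟩
      exact (finite_fibre_iff' (z ≫ P.hom) g u).mp ((ha u hu).mpr hfin)
    · right
      rintro _ ⟨u, hu, rfl⟩ ht
      exact hfin ((ha u hu).mp ((finite_fibre_iff' (z ≫ P.hom) g u).mpr ht))
  have hEo : IsOpen E := by
    rw [isOpen_iff_forall_mem_open]
    intro s hsE
    obtain ⟨O, hO, hsO, h | h⟩ := hloc s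
    · exact ⟨O, h, hO, hsO⟩
    · exact absurd hsE (h s hsO)
  have hEc : IsOpen Eᶜ := by
    rw [isOpen_iff_forall_mem_open]
    intro s hsE
    obtain ⟨O, hO, hsO, h | h⟩ := hloc s
    · exact absurd (h s hsO) hsE
    · exact ⟨O, h, hO, hsO⟩
  exact ⟨isOpen_compl_iff.mp hEc, hEo⟩

/-- A clopen piece of a quasi-isotrivial twisted constant scheme all of whose fibres are finite is
finite over the base. -/
theorem isFinite_of_forall_finite_fibre {S : Scheme.{u}} (hlc : LocPreconn S) (P : Over S)
    (hP : TwC.IsTwConst TwC.Topology.etale P) {Z : Scheme.{u}} (z : Z ⟶ P.left)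
    [IsOpenImmersion z] [IsClosedImmersion z]
    (hfib : ∀ s : S, ((z ≫ P.hom) ⁻¹' {s}).Finite) :
    IsFinite (z ≫ P.hom) := by
  obtain ⟨h1, h2, h3⟩ := Groth.Agent.S19144.result P hP
  have h3' := (ValuativeCriterion.iff.mp h3).1
  have hqc : QuasiCompact (z ≫ P.hom) := by
    refine of_etale_local (z ≫ P.hom) @QuasiCompact (fun s => ?_)
    obtain ⟨S', g, hg, s', N, fin, rfl, hs'N, ha, hb⟩ := key' hlc P hP z s
    have hfin : fin := (ha s' hs'N).mp
      ((finite_fibre_iff' (z ≫ P.hom) g s').mpr (hfib _))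
    refine ⟨N, N.ι ≫ g, inferInstance, ⟨⟨s', hs'N⟩, rfl⟩, ?_⟩
    have sqAB := (isPullback_morphismRestrict (pullback.snd (z ≫ P.hom) g) N).flip.paste_horiz
      (IsPullback.of_hasPullback (z ≫ P.hom) g)
    have hres : QuasiCompact (pullback.snd (z ≫ P.hom) g ∣_ N) := by
      refine ⟨fun V hV hVc => ?_⟩
      have himg : ((pullback.snd (z ≫ P.hom) g) ⁻¹ᵁ N).ι ''
          ((pullback.snd (z ≫ P.hom) g ∣_ N) ⁻¹' V) =
          (pullback.snd (z ≫ P.hom) g) ⁻¹' (N.ι '' V) := by
        ext y
        constructor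
        · rintro ⟨a, ha', rfl⟩
          refine ⟨(pullback.snd (z ≫ P.hom) g ∣_ N) a, ha', ?_⟩
          rw [← Scheme.Hom.comp_apply, morphismRestrict_ι, Scheme.Hom.comp_apply]
        · rintro ⟨v, hv, hvy⟩
          have hy : y ∈ (pullback.snd (z ≫ P.hom) g) ⁻¹ᵁ N := by
            show pullback.snd (z ≫ P.hom) g y ∈ N
            rw [← hvy]
            exact v.2
          refine ⟨⟨y, hy⟩, ?_, rfl⟩
          have : (pullback.snd (z ≫ P.hom) g ∣_ N) ⟨y, hy⟩ = v := by
            apply N.ι.injective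
            rw [← Scheme.Hom.comp_apply, morphismRestrict_ι, Scheme.Hom.comp_apply]
            exact hvy.symm
          show (pullback.snd (z ≫ P.hom) g ∣_ N) ⟨y, hy⟩ ∈ V
          rw [this]
          exact hv
      have hK : IsCompact ((pullback.snd (z ≫ P.hom) g) ⁻¹' (N.ι '' V)) := by
        refine hb hfin _ ?_ (hVc.image N.ι.continuous)
        rintro _ ⟨v, -, rfl⟩
        exact v.2
      rw [← himg] at hK
      exact ((pullback.snd (z ≫ P.hom) g) ⁻¹ᵁ N).ι.isOpenEmbedding.isEmbedding.isCompact_iff.mpr hK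
    rw [← sqAB.isoPullback_inv_snd]
    infer_instance
  exact isFinite_of_isClosedImmersion_of_quasiCompact P.hom h3' z

end Groth.Agent.Lib.Helper7.TwConst
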