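import Mathlib

/-!
# Locally irreducible spaces and schemes with unibranch local rings (helper7)

* `connectedComponent_eq_irreducibleComponent`: in a space where every point has an irreducible
  open neighbourhood, connected components are irreducible components, and they are open.
* `exists_isOpen_isIrreducible_nhd`: a locally Noetherian scheme all of whose local rings have
  prime nilradical is locally irreducible.
-/

set_option autoImplicit false

universe u

open AlgebraicGeometry CategoryTheory TopologicalSpace

namespace Groth.Agent.Lib.Helper7.TwConst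

/-- In a locally irreducible space the irreducible component of a point is open and equals its
connected component. -/
theorem connectedComponent_eq_irreducibleComponent {X : Type*} [TopologicalSpace X]
    (h : ∀ y : X, ∃ N : Set X, IsOpen N ∧ y ∈ N ∧ IsIrreducible N) (x : X) :
    connectedComponent x = irreducibleComponent x ∧ IsOpen (irreducibleComponent x) := by
  set Z := irreducibleComponent x with hZ
  have hZirr : IsIrreducible Z := isIrreducible_irreducibleComponent
  have hopen : IsOpen Z := by
    rw [isOpen_iff_mem_nhds]
    intro y hy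
    obtain ⟨N, hN, hyN, hNirr⟩ := h y
    have hZN : Z ⊆ closure N := by
      intro z hz
      rw [mem_closure_iff]
      intro O hO hzO
      obtain ⟨w, hw, hwO, hwN⟩ := hZirr.isPreirreducible O N hO hN ⟨z, hz, hzO⟩ ⟨y, hy, hyN⟩
      exact ⟨w, hwO, hwN⟩
    have heq : closure N = Z := eq_irreducibleComponent hNirr.closure.isPreirreducible hZN
    exact Filter.mem_of_superset (hN.mem_nhds hyN) (heq ▸ subset_closure)
  have hclopen : IsClopen Z := ⟨isClosed_irreducibleComponent, hopen⟩
  refine ⟨le_antisymm (hclopen.connectedComponent_subset mem_irreducibleComponent) ?_, hopen⟩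
  exact hZirr.isPreirreducible.isPreconnected.subset_connectedComponent mem_irreducibleComponent

/-- If the nilradical of the stalk at `y` is prime, `y` lies on a unique irreducible component
(variant of helper38's `irreducibleComponent_unique_of_isDomain_stalk`). -/
theorem irreducibleComponent_unique_of_isPrime_nilradical (X : Scheme.{u}) (y : X)
    (hy : (nilradical (X.presheaf.stalk y)).IsPrime) (Z₁ Z₂ : Set X)
    (h₁ : Z₁ ∈ irreducibleComponents X) (h₂ : Z₂ ∈ irreducibleComponents X) (hy₁ : y ∈ Z₁)
    (hy₂ : y ∈ Z₂) : Z₁ = Z₂ := by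
  let ξ : PrimeSpectrum (X.presheaf.stalk y) := ⟨nilradical _, hy⟩
  suffices H : ∀ Z ∈ irreducibleComponents X, y ∈ Z → Z = closure {X.fromSpecStalk y ξ} by
    rw [H Z₁ h₁ hy₁, H Z₂ h₂ hy₂]
  intro Z hZ hyZ
  have hZirr : IsIrreducible Z := hZ.prop
  have hZcl : IsClosed Z := isClosed_of_mem_irreducibleComponents Z hZ
  obtain ⟨g, hg⟩ := QuasiSober.sober hZirr hZcl
  have hgy : g ⤳ y := by
    rw [specializes_iff_mem_closure, hg.def]; exact hyZ
  obtain ⟨P, hP⟩ : g ∈ Set.range (X.fromSpecStalk y) := by
    rw [Scheme.range_fromSpecStalk]; exact hgy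
  have hηg : X.fromSpecStalk y ξ ⤳ g := by
    rw [← hP]
    have hPp : P.asIdeal.IsPrime := P.isPrime
    exact ((PrimeSpectrum.le_iff_specializes ξ P).mp (nilradical_le_prime P.asIdeal)).map
      (X.fromSpecStalk y).continuous
  have hsub : Z ⊆ closure {X.fromSpecStalk y ξ} := by
    rw [← hg.def]
    exact closure_minimal (Set.singleton_subset_iff.mpr (specializes_iff_mem_closure.mp hηg))
      isClosed_closure
  exact hZ.eq_of_subset isIrreducible_singleton.closure hsub

/-- In a scheme with finitely many irreducible components whose local rings have prime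
nilradical, irreducible components are open. -/
theorem isOpen_irreducibleComponent_of_finite (X : Scheme.{u})
    (hfin : (irreducibleComponents X).Finite)
    (h : ∀ x : X, (nilradical (X.presheaf.stalk x)).IsPrime) (y₀ : X) :
    IsOpen (irreducibleComponent y₀) := by
  set Z₀ := irreducibleComponent y₀ with hZ₀def
  have hZ₀ : Z₀ ∈ irreducibleComponents X := irreducibleComponent_mem_irreducibleComponents y₀
  have hcompl : Z₀ᶜ = ⋃ Z ∈ irreducibleComponents X \ {Z₀}, Z := by
    ext y
    constructor
    · intro hy
      refine Set.mem_iUnion₂.mpr ⟨irreducibleComponent y,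
        ⟨irreducibleComponent_mem_irreducibleComponents y, ?_⟩, mem_irreducibleComponent⟩
      intro hh
      rw [Set.mem_singleton_iff] at hh
      exact hy (hh ▸ mem_irreducibleComponent)
    · intro hy
      obtain ⟨Z, ⟨hZ, hne⟩, hyZ⟩ := Set.mem_iUnion₂.mp hy
      intro hyZ₀
      exact hne (irreducibleComponent_unique_of_isPrime_nilradical X y (h y) Z Z₀ hZ hZ₀ hyZ hyZ₀)
  rw [← isClosed_compl_iff, hcompl]
  exact (hfin.subset Set.sdiff_subset).isClosed_biUnion
    (fun Z hZ => isClosed_of_mem_irreducibleComponents Z hZ.1)

/-- A locally Noetherian scheme whose local rings have prime nilradical is locally irreducible. -/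
theorem exists_isOpen_isIrreducible_nhd (X : Scheme.{u}) [IsLocallyNoetherian X]
    (h : ∀ x : X, (nilradical (X.presheaf.stalk x)).IsPrime) (y : X) :
    ∃ N : Set X, IsOpen N ∧ y ∈ N ∧ IsIrreducible N := by
  obtain ⟨W, hW, hyW, -⟩ : ∃ W : X.Opens, W ∈ X.affineOpens ∧ y ∈ W ∧ W ≤ ⊤ :=
    Opens.isBasis_iff_nbhd.mp X.isBasis_affineOpens (Opens.mem_top y)
  haveI := IsLocallyNoetherian.component_noetherian ⟨W, hW⟩
  have hNoeth : NoetherianSpace W := noetherianSpace_of_isAffineOpen W hW
  have hfin : (irreducibleComponents (W : Scheme.{u})).Finite :=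
    NoetherianSpace.finite_irreducibleComponents
  have hst : ∀ x : (W : Scheme.{u}), (nilradical ((W : Scheme.{u}).presheaf.stalk x)).IsPrime := by
    intro x
    let e : (W : Scheme.{u}).presheaf.stalk x ≃+* X.presheaf.stalk x.1 :=
      (W.stalkIso x).commRingCatIsoToRingEquiv
    have h1 := h x.1
    have h2 : nilradical ((W : Scheme.{u}).presheaf.stalk x) =
        (nilradical (X.presheaf.stalk x.1)).comap e.toRingHom := by
      ext a
      simp only [Ideal.mem_comap, mem_nilradical]
      constructor
      · intro ha; exact ha.map e.toRingHom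
      · intro ha
        have := ha.map e.symm.toRingHom
        simpa using this
    rw [h2]
    exact Ideal.comap_isPrime _ _
  have hopen := isOpen_irreducibleComponent_of_finite (W : Scheme.{u}) hfin hst ⟨y, hyW⟩
  refine ⟨W.ι '' irreducibleComponent (⟨y, hyW⟩ : (W : Scheme.{u})), W.ι.isOpenEmbedding.isOpenMap _ hopen,
    ⟨⟨y, hyW⟩, mem_irreducibleComponent, rfl⟩, ?_⟩
  exact isIrreducible_irreducibleComponent.image _ W.ι.continuous.continuousOn

end Groth.Agent.Lib.Helper7.TwConst
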